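import Groth.Agent.SHensel17.Henselian
import Groth.Prelude.Def_EssEt

/-!
# Essentially étale subalgebras of strict henselizations
-/

set_option autoImplicit false
set_option linter.style.haveILetI false

universe u

open IsLocalRing

namespace Groth.Agent.SHensel17

variable (A S : Type u) [CommRing A] [IsLocalRing A] [CommRing S] [IsLocalRing S] [Algebra A S]
  [IsLocalHom (algebraMap A S)] [Hensel.IsStrictHenselization A S]

/-- The local ring of an étale algebra mapping to a strict henselization sits inside it. -/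
theorem exists_localAlgHom {C : Type u} [CommRing C] [Algebra A C] [Algebra.Etale A C] (τ : C →ₐ[A] S) :
    ∃ (q : Ideal C) (_ : q.IsPrime) (θ : Localization.AtPrime q →ₐ[A] S),
      q.comap (algebraMap A C) = maximalIdeal A ∧ Function.Injective θ ∧ IsLocalHom θ.toRingHom ∧
      ∀ c, θ (algebraMap C (Localization.AtPrime q) c) = τ c := by
  let q := (maximalIdeal S).comap τ.toRingHom
  let Cq := Localization.AtPrime q
  have hu : ∀ y : q.primeCompl, IsUnit (τ y) := fun y => not_not.1 y.2
  let θ : Cq →ₐ[A] S := IsLocalization.liftAlgHom hu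
  have hθ : ∀ c, θ (algebraMap C Cq c) = τ c := fun c => IsLocalization.lift_eq _ c
  have hloc : IsLocalHom θ.toRingHom := ⟨fun x hx => by
    obtain ⟨a, s, rfl⟩ := IsLocalization.exists_mk'_eq q.primeCompl x
    refine (IsLocalization.AtPrime.isUnit_mk'_iff Cq q a s).2 fun ha => ha ?_
    show IsUnit (τ a)
    rw [← hθ, ← IsLocalization.mk'_spec Cq a s, map_mul, hθ]
    exact IsUnit.mul hx (hu s)⟩
  refine ⟨q, inferInstance, θ, ?_, ?_, hloc, hθ⟩
  · rw [Ideal.comap_comap, AlgHom.toRingHom_eq_coe, τ.comp_algebraMap]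
    exact ((local_hom_TFAE (algebraMap A S)).out 0 4 :).1 ‹_›
  · haveI := weaklyEtale_of_isStrictHenselization A S
    letI : Algebra C S := τ.toRingHom.toAlgebra
    haveI : IsScalarTower A C S := .of_algebraMap_eq fun a => (τ.commutes a).symm
    haveI : Algebra.WeaklyEtale C S := Groth.Agent.S7127.result A C S
    letI : Algebra Cq S := θ.toRingHom.toAlgebra
    haveI : IsScalarTower C Cq S := .of_algebraMap_eq fun c => (hθ c).symm
    haveI : Algebra.WeaklyEtale C Cq := Groth.Agent.WEtaleVal.weaklyEtale_of_isLocalization q.primeCompl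
    haveI : Algebra.WeaklyEtale Cq S := Groth.Agent.S7127.result C Cq S
    haveI : IsLocalHom (algebraMap Cq S) := hloc
    haveI : Module.FaithfullyFlat Cq S := Module.FaithfullyFlat.of_flat_of_isLocalHom
    exact FaithfulSMul.algebraMap_injective Cq S

/-- An essentially finite type local subalgebra lies in an essentially étale one. -/
theorem exists_ge_essEtale (D : Subalgebra A S) [IsLocalRing D] [IsLocalHom (algebraMap D S)]
    [Algebra.EssFiniteType A D] :
    ∃ E : Subalgebra A S, D ≤ E ∧ ∃ _ : IsLocalRing E, EGA4loc.IsEssentiallyEtale A E := by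
  classical
  obtain ⟨C, _, _, _, τ, hτ⟩ := (Groth.Agent.HenselLib.exists_colim_of_isStrictHenselization A S).common_rep
    ((Algebra.EssFiniteType.finset A D).image fun x : D => (x : S))
  obtain ⟨q, _, θ, hq, hinj, hloc, hθ⟩ := exists_localAlgHom A S τ
  let e : Localization.AtPrime q ≃ₐ[A] θ.range := AlgEquiv.ofInjective θ hinj
  haveI : IsLocalRing θ.range := e.toRingEquiv.isLocalRing
  refine ⟨θ.range, fun x hx => ?_, ‹_›, C, _, _, q, ‹_›, ‹_›, hq, ⟨e.symm⟩⟩
  have hB : ∀ b : Algebra.EssFiniteType.subalgebra A D, ((b : D) : S) ∈ θ.range := by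
    have : Algebra.EssFiniteType.subalgebra A D ≤ θ.range.comap D.val :=
      Algebra.adjoin_le fun y hy => by
        obtain ⟨c, hc⟩ := hτ (y : S) (Finset.mem_image_of_mem _ hy)
        exact ⟨algebraMap C _ c, (hθ c).trans hc⟩
    exact fun b => this b.2
  obtain ⟨⟨b, t⟩, hbt⟩ := IsLocalization.surj (Algebra.EssFiniteType.submonoid A D) (⟨x, hx⟩ : D)
  obtain ⟨y, hy⟩ := hB b
  obtain ⟨w, hw⟩ := hB (t : Algebra.EssFiniteType.subalgebra A D)
  have htu : IsUnit (((t : Algebra.EssFiniteType.subalgebra A D) : D) : S) :=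
    IsUnit.map D.val t.2
  have hwu : IsUnit w := IsLocalHom.map_nonunit (f := θ.toRingHom) w (by
    show IsUnit (θ w)
    exact hw ▸ htu)
  obtain ⟨w', rfl⟩ := hwu
  refine ⟨y * ↑w'⁻¹, htu.mul_right_cancel ?_⟩
  have hval : (x : S) * ((t : Algebra.EssFiniteType.subalgebra A D) : D) = ((b : D) : S) :=
    congrArg (fun z : D => (z : S)) hbt
  rw [hval, ← hy, ← hw]
  show θ (y * ↑w'⁻¹) * θ (w' : Localization.AtPrime q) = θ y
  rw [← map_mul, Units.inv_mul_cancel_right]

/-- An essentially finite type local subalgebra with unramified closed point is essentially étale. -/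
theorem essEtale_of_map_maximalIdeal (D : Subalgebra A S) [IsLocalRing D] [IsLocalHom (algebraMap D S)]
    [Algebra.EssFiniteType A D] (hm : Ideal.map (algebraMap A D) (maximalIdeal A) = maximalIdeal D) :
    EGA4loc.IsEssentiallyEtale A D := by
  haveI : IsLocalHom (algebraMap A D) := ⟨fun a ha => by
    have h1 : IsUnit (algebraMap A S a) := ha.map D.val
    exact IsLocalHom.map_nonunit a h1⟩
  haveI hsc : IsSepClosure (ResidueField A) (ResidueField S) :=
    (‹Hensel.IsStrictHenselization A S›).isSepClosure
  haveI : Algebra.IsSeparable (ResidueField A) (ResidueField S) := hsc.separable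
  let ι : ResidueField D →ₐ[ResidueField A] ResidueField S :=
    { ResidueField.map (algebraMap D S) with
      commutes' := fun r => by
        obtain ⟨r, rfl⟩ := residue_surjective r
        rfl }
  haveI : Algebra.IsSeparable (ResidueField A) (ResidueField D) := Algebra.IsSeparable.of_algHom _ _ ι
  haveI : Algebra.FormallyUnramified A D :=
    Algebra.FormallyUnramified.iff_map_maximalIdeal_eq.2 ⟨inferInstance, hm⟩
  let B := Algebra.EssFiniteType.subalgebra A D
  let q : Ideal B := (maximalIdeal D).comap (algebraMap B D)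
  have hsub : Algebra.EssFiniteType.submonoid A D = q.primeCompl := by
    ext b
    exact not_not.symm
  haveI : IsLocalization.AtPrime D q := by
    show IsLocalization q.primeCompl D
    rw [← hsub]; infer_instance
  haveI : Algebra.IsUnramifiedAt A q := Algebra.FormallyUnramified.of_equiv
    ((IsLocalization.algEquiv q.primeCompl D (Localization.AtPrime q)).restrictScalars A)
  obtain ⟨f, hf, P, φ, hφ⟩ := Algebra.IsUnramifiedAt.exists_hasStandardEtaleSurjectionOn (R := A) q
  have hfu : IsUnit (algebraMap B D f) := not_not.1 hf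
  let ψ : Localization.Away f →ₐ[A] D :=
    IsLocalization.liftAlgHom (M := Submonoid.powers f) (f := IsScalarTower.toAlgHom A B D)
      fun y => by
        obtain ⟨_, n, rfl⟩ := y
        simpa using hfu.pow n
  have hψ : ∀ b : B, ψ (algebraMap B (Localization.Away f) b) = algebraMap B D b :=
    fun b => IsLocalization.lift_eq _ b
  obtain ⟨q', _, θ, hq', hinj, hloc, hθ⟩ := exists_localAlgHom A S (D.val.comp (ψ.comp φ))
  have hu : ∀ y : q'.primeCompl, IsUnit ((ψ.comp φ) y) := fun y => by
    refine (isUnit_map_iff (algebraMap D S) ((ψ.comp φ) (y : P.Ring))).1 ?_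
    have h1 : IsUnit (θ (algebraMap P.Ring (Localization.AtPrime q') y)) :=
      (IsLocalization.map_units (Localization.AtPrime q') y).map θ
    rw [hθ] at h1
    exact h1
  let θD : Localization.AtPrime q' →ₐ[A] D := IsLocalization.liftAlgHom hu
  have hθD : ∀ c, θD (algebraMap P.Ring (Localization.AtPrime q') c) = ψ (φ c) :=
    fun c => IsLocalization.lift_eq _ c
  have hcomp : ∀ z, (θD z : S) = θ z := by
    intro z
    have : D.val.comp θD = θ := by
      refine AlgHom.coe_ringHom_injective (IsLocalization.ringHom_ext q'.primeCompl ?_)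
      refine RingHom.ext fun c => ?_
      show ((θD (algebraMap P.Ring _ c) : D) : S) = θ (algebraMap P.Ring _ c)
      rw [hθD, hθ]
      rfl
    exact AlgHom.congr_fun this z
  have hbij : Function.Bijective θD := by
    refine ⟨fun x y h => hinj (by rw [← hcomp, ← hcomp, h]), fun x => ?_⟩
    obtain ⟨⟨b, t⟩, hbt⟩ := IsLocalization.surj q.primeCompl x
    obtain ⟨cb, hcb⟩ := hφ (algebraMap B _ b)
    obtain ⟨ct, hct⟩ := hφ (algebraMap B _ (t : B))
    have ht : θD (algebraMap P.Ring _ ct) = algebraMap B D (t : B) := by rw [hθD, hct, hψ]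
    have hct' : ct ∈ q'.primeCompl := fun h => by
      have h1 : ¬ IsUnit (algebraMap P.Ring (Localization.AtPrime q') ct) := fun hu' =>
        (IsLocalization.AtPrime.isUnit_to_map_iff (Localization.AtPrime q') q' ct).1 hu' h
      refine h1 (hloc.map_nonunit _ ?_)
      show IsUnit (θ (algebraMap P.Ring _ ct))
      rw [← hcomp, ht]
      exact (not_not.1 t.2).map D.val
    refine ⟨IsLocalization.mk' _ cb ⟨ct, hct'⟩, (IsLocalization.map_units D t).mul_right_cancel ?_⟩
    rw [hbt, ← ht, ← map_mul]
    erw [IsLocalization.mk'_spec]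
    rw [hθD, hcb, hψ]
  exact ⟨P.Ring, inferInstance, inferInstance, q', ‹_›, inferInstance, hq',
    ⟨(AlgEquiv.ofBijective θD hbij).symm⟩⟩

end Groth.Agent.SHensel17
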