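import Groth.Agent.SHensel17.Hom
import Groth.Agent.HenselLib.Split

/-!
# Integral local algebras over strictly henselian local rings
-/

set_option autoImplicit false
set_option linter.style.haveILetI false

universe u

open IsLocalRing

namespace Groth.Agent.SHensel17

/-- An integral element which is a unit of a local algebra over a henselian local ring has its
inverse in the algebra it generates. -/
theorem exists_inv_mem_adjoin {H C : Type u} [CommRing H] [HenselianLocalRing H] [CommRing C]
    [IsLocalRing C] [Algebra H C] [IsLocalHom (algebraMap H C)] {r : C} (hr : IsIntegral H r)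
    (hu : IsUnit r) : ∃ w ∈ Algebra.adjoin H ({r} : Set C), w * r = 1 := by
  let E := Algebra.adjoin H ({r} : Set C)
  haveI : Module.Finite H E := Algebra.finite_adjoin_simple_of_isIntegral hr
  let qE : Ideal E := (maximalIdeal C).comap E.val
  haveI : qE.IsPrime := Ideal.comap_isPrime _ _
  haveI : qE.IsMaximal := by
    refine Ideal.isMaximal_of_isIntegral_of_isMaximal_comap (R := H) qE ?_
    have : qE.comap (algebraMap H E) = maximalIdeal H :=
      (((local_hom_TFAE (algebraMap H C)).out 0 4 :).1 ‹_›)
    rw [this]
    exact maximalIdeal.isMaximal H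
  let rE : E := ⟨r, Algebra.self_mem_adjoin_singleton H r⟩
  obtain ⟨e, he, heq, hother⟩ := Groth.Agent.HenselLib.exists_separating_idem
    (Groth.Agent.HenselLib.bijOn_idem (maximalIdeal H) E).surjOn qE
  have hrq : rE ∉ qE := fun h => h hu
  have hunit : IsUnit (rE * e + (1 - e)) := by
    by_contra hnu
    obtain ⟨N, hN, hmem⟩ := exists_max_ideal_of_mem_nonunits hnu
    rcases eq_or_ne N qE with rfl | hne
    · have h1 : rE * (e * e) ∈ qE := by
        have := qE.mul_mem_right e hmem
        rwa [add_mul, sub_mul, one_mul, he.eq, sub_self, add_zero, mul_assoc] at this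
      rw [he.eq] at h1
      exact (‹qE.IsPrime›.mem_or_mem h1).elim hrq heq
    · exact hN.ne_top ((Ideal.eq_top_iff_one _).mpr (by
        have := N.add_mem hmem (N.mul_mem_left (1 - rE) (hother N hN hne))
        ring_nf at this
        exact this))
  obtain ⟨w, hw⟩ := hunit.exists_left_inv
  have he1 : (e : C) = 1 := (IsIdempotentElem.iff_eq_one_of_isUnit
    (not_not.1 (show ¬ (e : C) ∈ maximalIdeal C from heq))).1 (congrArg Subtype.val he)
  refine ⟨(w : C), w.2, ?_⟩
  have := congrArg Subtype.val hw
  push_cast at this
  rw [he1] at this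
  simpa [rE] using this

/-- A localisation all of whose numerators are integral is a quotient and integral. -/
theorem surjective_of_isIntegral {H T C : Type u} [CommRing H] [HenselianLocalRing H] [CommRing T]
    [CommRing C] [IsLocalRing C] [Algebra H T] [Algebra T C] [Algebra H C] [IsScalarTower H T C]
    [IsLocalHom (algebraMap H C)] (M : Submonoid T) [IsLocalization M C]
    (h : ∀ t : T, IsIntegral H (algebraMap T C t)) :
    Function.Surjective (algebraMap T C) ∧ Algebra.IsIntegral H C := by
  have hs : Function.Surjective (algebraMap T C) := by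
    intro z
    obtain ⟨t, s, rfl⟩ := IsLocalization.exists_mk'_eq M z
    obtain ⟨w, hw, hws⟩ := exists_inv_mem_adjoin (h s) (IsLocalization.map_units C s)
    rw [show ({algebraMap T C s} : Set C) = IsScalarTower.toAlgHom H T C '' {(s : T)} by simp,
      ← AlgHom.map_adjoin] at hw
    obtain ⟨v, -, rfl⟩ := hw
    refine ⟨t * v, (IsLocalization.eq_mk'_iff_mul_eq).2 ?_⟩
    have hv : algebraMap T C v * algebraMap T C (s : T) = 1 := hws
    rw [map_mul, mul_assoc, hv, mul_one]
  exact ⟨hs, ⟨fun z => by obtain ⟨t, rfl⟩ := hs z; exact h t⟩⟩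

/-- The image of a finite type algebra which is quasi-finite at the closed point is finite. -/
theorem fg_range_of_quasiFiniteAt {H T C : Type u} [CommRing H] [HenselianLocalRing H] [CommRing T]
    [CommRing C] [IsLocalRing C] [Algebra H T] [Algebra H C] [IsLocalHom (algebraMap H C)]
    [Algebra.FiniteType H T] (g : T →ₐ[H] C)
    [Algebra.QuasiFiniteAt H ((maximalIdeal C).comap g.toRingHom)] :
    g.range.toSubmodule.FG := by
  let q : Ideal T := (maximalIdeal C).comap g.toRingHom
  have hle : (maximalIdeal H).map (algebraMap H T) ≤ q := Ideal.map_le_iff_le_comap.2 fun a ha => by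
    show g (algebraMap H T a) ∈ maximalIdeal C
    rw [g.commutes]
    exact map_nonunit (algebraMap H C) a ha
  obtain ⟨ε, hε, hεq, hfg⟩ := Groth.Agent.HenselLib.exists_idem_at (R := H) q hle
  have hε1 : g ε = 1 := (IsIdempotentElem.iff_eq_one_of_isUnit
    (not_not.1 (show ¬ g ε ∈ maximalIdeal C from hεq))).1 (hε.map g.toRingHom)
  have : g.range.toSubmodule = (LinearMap.range (LinearMap.mulLeft H ε)).map g.toLinearMap := by
    ext x
    constructor
    · rintro ⟨t, rfl⟩
      exact ⟨ε * t, ⟨t, rfl⟩, by simp [hε1]⟩
    · rintro ⟨_, ⟨t, rfl⟩, rfl⟩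
      exact ⟨ε * t, rfl⟩
  rw [this]
  exact hfg.map _

theorem isIntegral_of_quasiFiniteAt {H T C : Type u} [CommRing H] [HenselianLocalRing H] [CommRing T]
    [CommRing C] [IsLocalRing C] [Algebra H T] [Algebra H C] [IsLocalHom (algebraMap H C)]
    [Algebra.FiniteType H T] (g : T →ₐ[H] C)
    [Algebra.QuasiFiniteAt H ((maximalIdeal C).comap g.toRingHom)] (t : T) : IsIntegral H (g t) :=
  IsIntegral.of_mem_of_fg g.range (fg_range_of_quasiFiniteAt g) _ ⟨t, rfl⟩

/-- A local ring which is integral over a henselian local ring is henselian. -/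
theorem henselianLocalRing_of_integral {H C : Type u} [CommRing H] [HenselianLocalRing H] [CommRing C]
    [IsLocalRing C] [Algebra H C] [Algebra.IsIntegral H C] : HenselianLocalRing C := by
  have hc : (maximalIdeal C).comap (algebraMap H C) = maximalIdeal H :=
    IsLocalRing.eq_maximalIdeal (Ideal.isMaximal_comap_of_isIntegral_of_isMaximal (R := H) _)
  haveI := Groth.Agent.HenselLib.henselianRing_of_isIntegral (maximalIdeal H) C
  haveI := Groth.Agent.HenselLib.henselianRing_radical ((maximalIdeal H).map (algebraMap H C))
  have hrad : ((maximalIdeal H).map (algebraMap H C)).radical = maximalIdeal C := by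
    refine le_antisymm ((Ideal.IsPrime.radical_le_iff (maximalIdeal.isMaximal C).isPrime).2
      (Ideal.map_le_iff_le_comap.2 hc.ge)) ?_
    rw [Ideal.radical_eq_sInf]
    refine le_sInf fun P ⟨hle, hP⟩ => ?_
    haveI := hP
    have : (P.comap (algebraMap H C)).IsMaximal := by
      rw [← (maximalIdeal.isMaximal H).eq_of_le (Ideal.comap_ne_top _ hP.ne_top)
        (Ideal.map_le_iff_le_comap.1 hle)]
      infer_instance
    rw [IsLocalRing.eq_maximalIdeal (Ideal.isMaximal_of_isIntegral_of_isMaximal_comap (R := H) P this)]
  haveI : HenselianRing C (maximalIdeal C) := hrad ▸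
    Groth.Agent.HenselLib.henselianRing_radical ((maximalIdeal H).map (algebraMap H C))
  exact Groth.Agent.HenselLib.henselianLocalRing_of_henselianRing

/-- Local integral algebras over a strictly henselian local ring. -/
theorem integral_local {H C : Type u} [CommRing H] [HenselianLocalRing H]
    [IsSepClosed (ResidueField H)] [CommRing C] [IsLocalRing C] [Algebra H C] [Algebra.IsIntegral H C] :
    HenselianLocalRing C ∧ IsSepClosed (ResidueField C) ∧
      ∀ _ : IsLocalHom (algebraMap H C), IsPurelyInseparable (ResidueField H) (ResidueField C) := by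
  have hc : (maximalIdeal C).comap (algebraMap H C) = maximalIdeal H :=
    IsLocalRing.eq_maximalIdeal (Ideal.isMaximal_comap_of_isIntegral_of_isMaximal (R := H) _)
  haveI : IsLocalHom (algebraMap H C) := ((local_hom_TFAE (algebraMap H C)).out 0 4 :).2 hc
  haveI : Algebra.IsAlgebraic (ResidueField H) (ResidueField C) := ⟨fun z => by
    obtain ⟨z, rfl⟩ := residue_surjective z
    have h1 : IsIntegral H (residue C z) :=
      (Algebra.IsIntegral.isIntegral (R := H) z).map (IsScalarTower.toAlgHom H C (ResidueField C))
    exact h1.tower_top.isAlgebraic⟩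
  exact ⟨henselianLocalRing_of_integral (H := H), Algebra.IsAlgebraic.isSepClosed (F := ResidueField H),
    fun _ => inferInstance⟩

/-- A weakly étale local algebra over an algebra whose image is integral over a strictly henselian
local ring is a quotient of it. -/
theorem surjective_of_weaklyEtale {H T C : Type u} [CommRing H] [HenselianLocalRing H]
    [IsSepClosed (ResidueField H)] [CommRing T] [CommRing C] [IsLocalRing C] [Algebra H T] [Algebra T C]
    [Algebra H C] [IsScalarTower H T C] [IsLocalHom (algebraMap H C)] [Algebra.WeaklyEtale T C]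
    (h : ∀ (_ : IsLocalHom (algebraMap H (Localization.AtPrime ((maximalIdeal C).comap (algebraMap T C))))) (t : T),
      IsIntegral H (algebraMap T (Localization.AtPrime ((maximalIdeal C).comap (algebraMap T C))) t)) :
    Function.Surjective (algebraMap T C) ∧ Algebra.IsIntegral H C := by
  let Q := (maximalIdeal C).comap (algebraMap T C)
  let TQ := Localization.AtPrime Q
  have hlift : ∀ y : Q.primeCompl, IsUnit (algebraMap T C y) := fun y => not_not.1 y.2
  letI : Algebra TQ C := (IsLocalization.lift hlift : TQ →+* C).toAlgebra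
  haveI : IsScalarTower T TQ C :=
    .of_algebraMap_eq fun x => (IsLocalization.lift_eq hlift x).symm
  haveI : IsScalarTower H TQ C := .of_algebraMap_eq fun x => by
    rw [IsScalarTower.algebraMap_apply H T TQ, ← IsScalarTower.algebraMap_apply T TQ C,
      ← IsScalarTower.algebraMap_apply H T C]
  haveI : IsLocalHom (algebraMap H TQ) := ⟨fun a ha => by
    have := ha.map (algebraMap TQ C)
    rw [← IsScalarTower.algebraMap_apply] at this
    exact IsLocalHom.map_nonunit a this⟩
  obtain ⟨hs, hint⟩ := surjective_of_isIntegral (H := H) (T := T) (C := TQ) Q.primeCompl (h ‹_›)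
  haveI := hint
  obtain ⟨hhens, hsep, -⟩ := integral_local (H := H) (C := TQ)
  haveI := hhens
  haveI := hsep
  haveI : IsLocalHom (algebraMap TQ C) := ⟨fun x hx => by
    obtain ⟨a, s, rfl⟩ := IsLocalization.exists_mk'_eq Q.primeCompl x
    refine (IsLocalization.AtPrime.isUnit_mk'_iff TQ Q a s).2 fun ha => ha ?_
    rw [IsScalarTower.algebraMap_apply T TQ C, ← IsLocalization.mk'_spec TQ a s, map_mul,
      ← IsScalarTower.algebraMap_apply T TQ C]
    exact hx.mul (hlift s)⟩
  haveI : Algebra.WeaklyEtale T TQ := Groth.Agent.WEtaleVal.weaklyEtale_of_isLocalization Q.primeCompl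
  haveI : Algebra.WeaklyEtale TQ C := Groth.Agent.S7127.result T TQ C
  have hb := Groth.Agent.WEtaleVal.bijective_of_strictlyHenselian TQ C
  refine ⟨?_, ⟨fun z => ?_⟩⟩
  · rw [IsScalarTower.algebraMap_eq T TQ C]
    exact hb.2.comp hs
  · obtain ⟨y, rfl⟩ := hb.2 z
    exact (Algebra.IsIntegral.isIntegral y).map (IsScalarTower.toAlgHom H TQ C)

end Groth.Agent.SHensel17
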