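import Groth.Agent.SHensel17.QuasiFinite

/-!
# Henselizations and weakly étale maps
-/

set_option autoImplicit false
set_option linter.style.haveILetI false

universe u

open TensorProduct IsLocalRing

namespace Groth.Agent.SHensel17

/-- A weakly étale local algebra over a localisation whose numerators are integral over a henselian
local ring, with trivial residue extension, is that localisation. -/
theorem bijective_localization {H T C : Type u} [CommRing H] [HenselianLocalRing H]
    [CommRing T] [CommRing C] [IsLocalRing C] [Algebra H T] [Algebra T C]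
    [Algebra H C] [IsScalarTower H T C] [IsLocalHom (algebraMap H C)] [Algebra.WeaklyEtale T C]
    {TQ : Type u} [CommRing TQ] [IsLocalRing TQ] [Algebra T TQ] [Algebra H TQ] [IsScalarTower H T TQ]
    [IsLocalization.AtPrime TQ ((maximalIdeal C).comap (algebraMap T C))]
    [Algebra TQ C] [IsScalarTower T TQ C] [IsScalarTower H TQ C]
    (hint : ∀ (_ : IsLocalHom (algebraMap H TQ)) (t : T), IsIntegral H (algebraMap T TQ t))
    (htriv : IsSepClosed (ResidueField H) ∨
      ∀ c : C, ∃ x : TQ, c - algebraMap TQ C x ∈ maximalIdeal C) :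
    Function.Bijective (algebraMap TQ C) ∧ Function.Surjective (algebraMap T C) ∧
      Algebra.IsIntegral H C := by
  let Q := (maximalIdeal C).comap (algebraMap T C)
  haveI : IsLocalHom (algebraMap H TQ) := ⟨fun a ha => by
    have := ha.map (algebraMap TQ C)
    rw [← IsScalarTower.algebraMap_apply] at this
    exact IsLocalHom.map_nonunit a this⟩
  obtain ⟨hs, hI⟩ := surjective_of_isIntegral (H := H) (T := T) (C := TQ) Q.primeCompl (hint ‹_›)
  haveI := hI
  haveI : HenselianLocalRing TQ := henselianLocalRing_of_integral (H := H)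
  haveI : IsLocalHom (algebraMap TQ C) := ⟨fun x hx => by
    obtain ⟨a, s, rfl⟩ := IsLocalization.exists_mk'_eq Q.primeCompl x
    refine (IsLocalization.AtPrime.isUnit_mk'_iff TQ Q a s).2 fun ha => ha ?_
    rw [IsScalarTower.algebraMap_apply T TQ C, ← IsLocalization.mk'_spec TQ a s, map_mul,
      ← IsScalarTower.algebraMap_apply T TQ C]
    exact hx.mul (not_not.1 s.2)⟩
  haveI : Algebra.WeaklyEtale T TQ := Groth.Agent.WEtaleVal.weaklyEtale_of_isLocalization Q.primeCompl
  haveI : Algebra.WeaklyEtale TQ C := Groth.Agent.S7127.result T TQ C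
  have hb : Function.Bijective (algebraMap TQ C) := by
    rcases htriv with h | h
    · haveI := h
      haveI : IsSepClosed (ResidueField TQ) := (integral_local (H := H) (C := TQ)).2.1
      exact Groth.Agent.WEtaleVal.bijective_of_strictlyHenselian TQ C
    · exact Groth.Agent.WEtaleVal.bijective_of_henselian TQ C h
  refine ⟨hb, ?_, ⟨fun z => ?_⟩⟩
  · rw [IsScalarTower.algebraMap_eq T TQ C]
    exact hb.2.comp hs
  · obtain ⟨y, rfl⟩ := hb.2 z
    exact (Algebra.IsIntegral.isIntegral y).map (IsScalarTower.toAlgHom H TQ C)

/-- A henselization is weakly étale. -/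
theorem weaklyEtale_of_isHenselization (A R : Type u) [CommRing A] [IsLocalRing A] [CommRing R]
    [IsLocalRing R] [Algebra A R] [IsLocalHom (algebraMap A R)] [Hensel.IsHenselization A R] :
    Algebra.WeaklyEtale A R := by
  obtain ⟨ρ, hc⟩ := Groth.Agent.HenselLib.exists_colim_of_isHenselization A R
  exact Groth.Agent.S0736.result A R hc.isIndEtale

/-- The residue extension of a henselization is trivial. -/
theorem exists_sub_mem_of_isHenselization (A R : Type u) [CommRing A] [IsLocalRing A] [CommRing R]
    [IsLocalRing R] [Algebra A R] [IsLocalHom (algebraMap A R)] [Hensel.IsHenselization A R] (x : R) :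
    ∃ a : A, x - algebraMap A R a ∈ maximalIdeal R := by
  obtain ⟨ρ, hc⟩ := Groth.Agent.HenselLib.exists_colim_of_isHenselization A R
  obtain ⟨a, ha⟩ := residue_surjective (ρ x)
  refine ⟨a, (hc.mem_maximal_iff _).2 ?_⟩
  rw [map_sub, ρ.commutes, ← ha]
  exact sub_self _

/-- The henselization of a localisation is weakly étale over the ring. -/
theorem weaklyEtale_atPrime_of_isHenselization {A : Type u} [CommRing A] (p : Ideal A) [p.IsPrime]
    (R : Type u) [CommRing R] [IsLocalRing R] [Algebra (Localization.AtPrime p) R]
    [IsLocalHom (algebraMap (Localization.AtPrime p) R)]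
    [Hensel.IsHenselization (Localization.AtPrime p) R] [Algebra A R]
    [IsScalarTower A (Localization.AtPrime p) R] : Algebra.WeaklyEtale A R :=
  haveI : Algebra.WeaklyEtale A (Localization.AtPrime p) :=
    Groth.Agent.WEtaleVal.weaklyEtale_of_isLocalization p.primeCompl
  haveI := weaklyEtale_of_isHenselization (Localization.AtPrime p) R
  Algebra.WeaklyEtale.trans A (Localization.AtPrime p) R

/-- A henselian weakly étale algebra with trivial residue extension is a henselization. -/
theorem isHenselization_of_weaklyEtale (A R : Type u) [CommRing A] [IsLocalRing A] [CommRing R]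
    [HenselianLocalRing R] [Algebra A R] [IsLocalHom (algebraMap A R)] [Algebra.WeaklyEtale A R]
    (htriv : ∀ x : R, ∃ a : A, x - algebraMap A R a ∈ maximalIdeal R) :
    Hensel.IsHenselization A R := by
  obtain ⟨H, _, _, _, _, hH⟩ := Groth.Agent.HenselLib.exists_henselization A
  haveI := hH.henselian
  obtain ⟨g, hg, -⟩ := hH.universal R (algebraMap A R) ‹_›
  let g' : H →ₐ[A] R := { g with commutes' := RingHom.congr_fun hg }
  letI : Algebra H R := g.toAlgebra
  haveI : IsScalarTower A H R := .of_algebraMap_eq fun r => (g'.commutes r).symm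
  haveI : IsLocalHom (algebraMap H R) := ⟨fun x hx => by
    obtain ⟨a, ha⟩ := exists_sub_mem_of_isHenselization A H x
    by_contra h
    have hxm : x ∈ maximalIdeal H := h
    have h1 : algebraMap A H a ∈ maximalIdeal H := by
      rw [show algebraMap A H a = x - (x - algebraMap A H a) by ring]
      exact sub_mem hxm ha
    have ha' : a ∈ maximalIdeal A := fun hu => h1 (hu.map _)
    obtain ⟨ρ, hc⟩ := Groth.Agent.HenselLib.exists_colim_of_isHenselization A H
    rw [← hc.map_maximalIdeal fun r hr => Groth.Agent.HenselLib.algebraMap_residueField_eq_zero hr] at hxm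
    have h2 := Ideal.mem_map_of_mem g'.toRingHom hxm
    rw [Ideal.map_map, AlgHom.toRingHom_eq_coe, AlgHom.comp_algebraMap] at h2
    exact ((Ideal.map_le_iff_le_comap.2 fun b hb => map_nonunit (algebraMap A R) b hb :
      (maximalIdeal A).map (algebraMap A R) ≤ maximalIdeal R) h2) hx⟩
  haveI := weaklyEtale_of_isHenselization A H
  haveI : Algebra.WeaklyEtale H R := Groth.Agent.S7127.result A H R
  have hb := Groth.Agent.WEtaleVal.bijective_of_henselian H R fun x => by
    obtain ⟨a, ha⟩ := htriv x
    exact ⟨algebraMap A H a, by rwa [← IsScalarTower.algebraMap_apply]⟩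
  obtain ⟨ρ, hc⟩ := Groth.Agent.HenselLib.exists_colim_of_isHenselization A H
  exact Groth.Agent.HenselLib.isHenselization_of_colim
    (hc.of_algEquiv (AlgEquiv.ofBijective g' hb).symm)

/-- Any two henselizations are isomorphic. -/
theorem exists_algEquiv_henselization (A R R' : Type u) [CommRing A] [IsLocalRing A] [CommRing R]
    [IsLocalRing R] [CommRing R'] [IsLocalRing R'] [Algebra A R] [Algebra A R']
    [IsLocalHom (algebraMap A R)] [IsLocalHom (algebraMap A R')]
    [hR : Hensel.IsHenselization A R] [hR' : Hensel.IsHenselization A R'] :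
    Nonempty (R ≃ₐ[A] R') := by
  haveI := hR.henselian
  haveI := hR'.henselian
  obtain ⟨g, hg, -⟩ := hR.universal R' (algebraMap A R') ‹_›
  obtain ⟨k, hk, -⟩ := hR'.universal R (algebraMap A R) ‹_›
  have h1 : k.comp g = RingHom.id R :=
    (hR.universal R (algebraMap A R) ‹_›).unique (by rw [RingHom.comp_assoc, hg, hk]) rfl
  have h2 : g.comp k = RingHom.id R' :=
    (hR'.universal R' (algebraMap A R') ‹_›).unique (by rw [RingHom.comp_assoc, hk, hg]) rfl
  exact ⟨AlgEquiv.ofRingEquiv (f := RingEquiv.ofRingHom g k h2 h1) (RingHom.congr_fun hg)⟩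

end Groth.Agent.SHensel17
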