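import Groth.Agent.S0736
import Groth.Agent.S7127
import Groth.Agent.HenselLib.IndEtale
import Groth.Agent.HenselLib.HenselizationLocal
import Groth.Agent.WEtaleVal.Olivier

/-!
# Strict henselizations and weakly étale maps
-/

set_option autoImplicit false
set_option linter.style.haveILetI false

universe u

open TensorProduct

namespace Groth.Agent.SHensel17

/-- A ring map is weakly étale. -/
def RWE {R S : Type u} [CommRing R] [CommRing S] (f : R →+* S) : Prop :=
  @Algebra.WeaklyEtale R S _ _ f.toAlgebra

theorem rwe_algebraMap (R S : Type u) [CommRing R] [CommRing S] [Algebra R S]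
    [h : Algebra.WeaklyEtale R S] : RWE (algebraMap R S) := by
  unfold RWE
  convert! h
  exact Algebra.algebra_ext _ _ fun _ => rfl

theorem RWE.weaklyEtale {R S : Type u} [CommRing R] [CommRing S] [Algebra R S] {f : R →+* S}
    (h : RWE f) (hf : f = algebraMap R S) : Algebra.WeaklyEtale R S := by
  subst hf
  unfold RWE at h
  convert! h
  exact Algebra.algebra_ext _ _ fun _ => rfl

theorem rwe_of_bijective {R S : Type u} [CommRing R] [CommRing S] {f : R →+* S}
    (hf : Function.Bijective f) : RWE f := by
  letI := f.toAlgebra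
  haveI : IsLocalization (⊥ : Submonoid R) R := IsLocalization.self bot_le
  haveI : IsLocalization (⊥ : Submonoid R) S :=
    IsLocalization.isLocalization_of_algEquiv ⊥ (AlgEquiv.ofBijective (Algebra.ofId R S) hf)
  exact Groth.Agent.WEtaleVal.weaklyEtale_of_isLocalization (⊥ : Submonoid R)

theorem RWE.comp {R S T : Type u} [CommRing R] [CommRing S] [CommRing T] {g : S →+* T} {f : R →+* S}
    (hg : RWE g) (hf : RWE f) : RWE (g.comp f) := by
  letI := f.toAlgebra
  letI := g.toAlgebra
  letI := (g.comp f).toAlgebra
  haveI : IsScalarTower R S T := .of_algebraMap_eq fun _ => rfl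
  haveI : Algebra.WeaklyEtale R S := hf
  haveI : Algebra.WeaklyEtale S T := hg
  exact Algebra.WeaklyEtale.trans R S T

theorem RWE.cancel {R S T : Type u} [CommRing R] [CommRing S] [CommRing T] {g : S →+* T} {f : R →+* S}
    (hgf : RWE (g.comp f)) (hf : RWE f) : RWE g := by
  letI := f.toAlgebra
  letI := g.toAlgebra
  letI := (g.comp f).toAlgebra
  haveI : IsScalarTower R S T := .of_algebraMap_eq fun _ => rfl
  haveI : Algebra.WeaklyEtale R S := hf
  haveI : Algebra.WeaklyEtale R T := hgf
  exact Groth.Agent.S7127.result R S T

theorem rwe_includeLeft (R S T : Type u) [CommRing R] [CommRing S] [CommRing T] [Algebra R S]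
    [Algebra R T] [Algebra.WeaklyEtale R S] :
    RWE (Algebra.TensorProduct.includeLeftRingHom : T →+* T ⊗[R] S) :=
  rwe_algebraMap T (T ⊗[R] S)

theorem rwe_includeRight (R S T : Type u) [CommRing R] [CommRing S] [CommRing T] [Algebra R S]
    [Algebra R T] [Algebra.WeaklyEtale R S] :
    RWE (Algebra.TensorProduct.includeRight : T →ₐ[R] S ⊗[R] T).toRingHom := by
  have := (rwe_of_bijective (Algebra.TensorProduct.comm R T S).toRingEquiv.bijective).comp
    (rwe_includeLeft R S T)
  convert! this using 1

/-- Tensoring a weakly étale map with an algebra. -/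
theorem rwe_map (A : Type u) {S S' : Type u} (N : Type u) [CommRing A] [CommRing S] [CommRing S']
    [CommRing N] [Algebra A S] [Algebra A S'] [Algebra A N] [Algebra S S'] [IsScalarTower A S S']
    [Algebra.WeaklyEtale S S'] :
    RWE (Algebra.TensorProduct.map (IsScalarTower.toAlgHom A S S') (AlgHom.id A N)).toRingHom := by
  let e : (S ⊗[A] N) ⊗[S] S' →+* S' ⊗[A] N :=
    (Algebra.TensorProduct.cancelBaseChange A S S' S' N).toRingEquiv.toRingHom.comp
      (Algebra.TensorProduct.comm S (S ⊗[A] N) S').toRingEquiv.toRingHom
  have he : RWE e := RWE.comp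
    (rwe_of_bijective (Algebra.TensorProduct.cancelBaseChange A S S' S' N).toRingEquiv.bijective)
    (rwe_of_bijective (Algebra.TensorProduct.comm S (S ⊗[A] N) S').toRingEquiv.bijective)
  have h := he.comp (rwe_includeLeft S S' (S ⊗[A] N))
  convert! h using 1
  refine RingHom.ext fun x => ?_
  induction x using TensorProduct.induction_on with
  | zero => simp
  | add x y hx hy => rw [map_add, map_add, hx, hy]
  | tmul s n => simp [e, Algebra.smul_def]

/-- A strictly henselian local algebra which is weakly étale is a strict henselization. -/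
theorem isStrictHenselization_of_weaklyEtale (A R : Type u) [CommRing A] [IsLocalRing A] [CommRing R]
    [HenselianLocalRing R] [Algebra A R] [IsLocalHom (algebraMap A R)]
    [IsSepClosed (IsLocalRing.ResidueField R)] [Algebra.WeaklyEtale A R] :
    Hensel.IsStrictHenselization A R := by
  open IsLocalRing in
  haveI : Algebra.IsSeparable (ResidueField A) (ResidueField R) := ⟨fun z => by
    obtain ⟨r, rfl⟩ := residue_surjective z
    let ψ : TensorProduct A (ResidueField A) R →ₐ[ResidueField A] ResidueField R :=
      Algebra.TensorProduct.lift (Algebra.ofId _ _) (IsScalarTower.toAlgHom A R (ResidueField R))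
        (fun _ _ => Commute.all _ _)
    have h := Groth.Agent.WEtaleField.isSeparable_map (K := ResidueField A) ψ (1 ⊗ₜ[A] r)
    rw [show ψ ((1 : ResidueField A) ⊗ₜ[A] r) = residue R r by simp [ψ]] at h
    exact h⟩
  open IsLocalRing in
  haveI : IsSepClosure (ResidueField A) (ResidueField R) := ⟨‹_›, ‹_›⟩
  obtain ⟨H, _, _, ρ, hc⟩ := Groth.Agent.HenselLib.exists_isNbhdColim A (IsLocalRing.ResidueField R)
    Groth.Agent.HenselLib.generated_of_isSeparable
  haveI := hc.isLocalRing
  haveI := hc.isLocalHom fun r hr =>
    Groth.Agent.HenselLib.algebraMap_eq_zero_of_tower (K := IsLocalRing.ResidueField R) hr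
  haveI hH := Groth.Agent.HenselLib.isStrictHenselization_of_colim hc
  haveI := hc.henselian
  haveI : IsSepClosed (IsLocalRing.ResidueField H) := hH.isSepClosure.sep_closed
  haveI : Algebra.WeaklyEtale A H := Groth.Agent.S0736.result A H hc.isIndEtale
  obtain ⟨g, hg, -⟩ := hc.existsUnique_map (T := R) (RingHom.id _) fun r => rfl
  letI : Algebra H R := g.toRingHom.toAlgebra
  haveI : IsScalarTower A H R := .of_algebraMap_eq fun r => (g.commutes r).symm
  haveI : IsLocalHom (algebraMap H R) := ⟨fun x hx => by
    refine hc.isUnit x fun h0 => (hx.map (IsLocalRing.residue R)).ne_zero ?_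
    exact (hg x).trans h0⟩
  haveI : Algebra.WeaklyEtale H R := Groth.Agent.S7127.result A H R
  exact Groth.Agent.HenselLib.isStrictHenselization_of_colim
    (hc.of_algEquiv (AlgEquiv.ofBijective g
      (Groth.Agent.WEtaleVal.bijective_of_strictlyHenselian H R)).symm)

/-- A strict henselization is weakly étale. -/
theorem weaklyEtale_of_isStrictHenselization (A R : Type u) [CommRing A] [IsLocalRing A] [CommRing R]
    [IsLocalRing R] [Algebra A R] [IsLocalHom (algebraMap A R)] [Hensel.IsStrictHenselization A R] :
    Algebra.WeaklyEtale A R :=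
  Groth.Agent.S0736.result A R
    (Groth.Agent.HenselLib.exists_colim_of_isStrictHenselization A R).isIndEtale

/-- The strict henselization of a localisation is weakly étale over the ring. -/
theorem weaklyEtale_of_atPrime {A : Type u} [CommRing A] (p : Ideal A) [p.IsPrime] (R : Type u)
    [CommRing R] [IsLocalRing R] [Algebra (Localization.AtPrime p) R]
    [IsLocalHom (algebraMap (Localization.AtPrime p) R)]
    [Hensel.IsStrictHenselization (Localization.AtPrime p) R] [Algebra A R]
    [IsScalarTower A (Localization.AtPrime p) R] : Algebra.WeaklyEtale A R :=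
  haveI : Algebra.WeaklyEtale A (Localization.AtPrime p) :=
    Groth.Agent.WEtaleVal.weaklyEtale_of_isLocalization p.primeCompl
  haveI := weaklyEtale_of_isStrictHenselization (Localization.AtPrime p) R
  Algebra.WeaklyEtale.trans A (Localization.AtPrime p) R

/-- Any two strict henselizations are isomorphic. -/
theorem exists_algEquiv (A R R' : Type u) [CommRing A] [IsLocalRing A] [CommRing R] [IsLocalRing R]
    [CommRing R'] [IsLocalRing R'] [Algebra A R] [Algebra A R'] [IsLocalHom (algebraMap A R)]
    [IsLocalHom (algebraMap A R')] [hR : Hensel.IsStrictHenselization A R]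
    [hR' : Hensel.IsStrictHenselization A R'] : Nonempty (R ≃ₐ[A] R') := by
  haveI := hR.henselian
  haveI := hR'.henselian
  haveI := hR.isSepClosure
  haveI := hR'.isSepClosure
  haveI : IsSepClosed (IsLocalRing.ResidueField R) := hR.isSepClosure.sep_closed
  haveI : IsSepClosed (IsLocalRing.ResidueField R') := hR'.isSepClosure.sep_closed
  let τ : IsLocalRing.ResidueField R →ₐ[IsLocalRing.ResidueField A] IsLocalRing.ResidueField R' :=
    IsSepClosed.lift
  obtain ⟨g, ⟨hg, hgr⟩, -⟩ := hR.universal R' (algebraMap A R') τ.toRingHom (RingHom.ext fun x => by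
    exact τ.commutes x)
  let g' : R →ₐ[A] R' := { g with commutes' := RingHom.congr_fun hg }
  letI : Algebra R R' := g.toAlgebra
  haveI : IsScalarTower A R R' := .of_algebraMap_eq fun r => (g'.commutes r).symm
  haveI : IsLocalHom (algebraMap R R') := ⟨fun x hx => by
    by_contra h
    refine (hx.map (IsLocalRing.residue R')).ne_zero ?_
    show IsLocalRing.residue R' (g x) = 0
    rw [hgr, (IsLocalRing.residue_eq_zero_iff x).2 h, map_zero]⟩
  haveI := weaklyEtale_of_isStrictHenselization A R
  haveI := weaklyEtale_of_isStrictHenselization A R'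
  haveI : Algebra.WeaklyEtale R R' := Groth.Agent.S7127.result A R R'
  exact ⟨AlgEquiv.ofBijective g' (Groth.Agent.WEtaleVal.bijective_of_strictlyHenselian R R')⟩

end Groth.Agent.SHensel17
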