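import Groth.Agent.S16441
import Groth.Agent.S2136
import Groth.Agent.S9812
import Groth.Prelude.Def_EssEt

/-!
# Normal intermediate rings of a strict henselization of a normal domain
-/

set_option autoImplicit false
set_option linter.style.haveILetI false

universe u

open IsLocalRing TensorProduct

namespace Groth.Agent.SHensel17

/-- An unramified extension of a normal local domain inside an essentially étale algebra is flat. -/
theorem flat_of_unramified_normal {A C E B : Type u} [CommRing A] [CommRing C] [CommRing E] [CommRing B]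
    [Algebra A C] [Algebra.Etale A C] [Algebra A B] [Algebra A E] [Algebra C E] [IsScalarTower A C E]
    [Algebra B E] [IsScalarTower A B E] [IsLocalRing E] (q : Ideal C) [q.IsPrime] [IsLocalization.AtPrime E q]
    [IsDomain B] [IsIntegrallyClosed B] (hinj : Function.Injective (algebraMap B E)) :
    Module.Flat B E := by
  let φ : B ⊗[A] C →ₐ[B] E := Algebra.TensorProduct.lift (Algebra.ofId B E) (IsScalarTower.toAlgHom A C E)
    fun _ _ => Commute.all _ _
  let R := φ.range
  haveI : Algebra.FiniteType B (B ⊗[A] C) := inferInstance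
  haveI : Algebra.FiniteType B R := Algebra.FiniteType.of_surjective φ.rangeRestrict φ.rangeRestrict_surjective
  haveI : Algebra.FormallyUnramified B R :=
    Algebra.FormallyUnramified.of_surjective φ.rangeRestrict φ.rangeRestrict_surjective
  let q' : Ideal R := (maximalIdeal E).comap (algebraMap R E)
  have hC : ∀ c : C, algebraMap C E c ∈ R := fun c => ⟨1 ⊗ₜ c, by simp [φ]⟩
  haveI hloc : IsLocalization.AtPrime E q' := by
    refine { map_units := fun y => not_not.1 y.2, surj := fun z => ?_, exists_of_eq := fun {x y} h => ⟨1, by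
      rw [Subtype.ext (show (x : E) = y from h)]⟩ }
    obtain ⟨⟨c, s⟩, hcs⟩ := IsLocalization.surj q.primeCompl z
    have hs : (⟨_, hC s⟩ : R) ∈ q'.primeCompl := fun h =>
      h (IsLocalization.map_units E s)
    exact ⟨⟨⟨_, hC c⟩, ⟨_, hs⟩⟩, hcs⟩
  let p : Ideal B := q'.comap (algebraMap B R)
  haveI : q'.LiesOver p := ⟨rfl⟩
  haveI : IsDomain (Localization.AtPrime p) :=
    IsLocalization.isDomain_localization (Ideal.primeCompl_le_nonZeroDivisors p)
  haveI : IsIntegrallyClosed (Localization.AtPrime p) :=
    isIntegrallyClosed_of_isLocalization _ p.primeCompl (Ideal.primeCompl_le_nonZeroDivisors p)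
  haveI : Algebra.IsUnramifiedAt B q' :=
    Algebra.FormallyUnramified.comp B R (Localization.AtPrime q')
  have hinj' : Function.Injective (Localization.localRingHom p q' (algebraMap B R) (q'.over_def p)) := by
    refine (injective_iff_map_eq_zero _).2 fun z hz => ?_
    obtain ⟨b, s, rfl⟩ := IsLocalization.exists_mk'_eq p.primeCompl z
    rw [Localization.localRingHom_mk', IsLocalization.mk'_eq_zero_iff] at hz
    obtain ⟨⟨w, hw⟩, hwb⟩ := hz
    have h1 : (w : E) * algebraMap B E b = 0 := congrArg Subtype.val hwb
    have hb : b = 0 := hinj (((not_not.1 hw : IsUnit (w : E)).mul_right_eq_zero.1 h1).trans (map_zero _).symm)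
    rw [hb, IsLocalization.mk'_zero]
  obtain ⟨g, hg, hget⟩ := S2136.result q' p (S9812.result _) hinj'
  have hgu : IsUnit (algebraMap R E g) := not_not.1 hg
  letI : Algebra (Localization.Away g) E := (IsLocalization.Away.lift g hgu).toAlgebra
  haveI : IsScalarTower R (Localization.Away g) E :=
    IsScalarTower.of_algebraMap_eq fun x => (IsLocalization.Away.lift_eq g hgu x).symm
  haveI : IsScalarTower B (Localization.Away g) E := IsScalarTower.to₁₃₄ B R _ _
  haveI : IsLocalization (Algebra.algebraMapSubmonoid (Localization.Away g) q'.primeCompl) E := by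
    refine IsLocalization.isLocalization_of_submonoid_le (Localization.Away g) E (Submonoid.powers g) q'.primeCompl ?_
    exact Submonoid.powers_le.2 hg
  haveI : Module.Flat B (Localization.Away g) := haveI := hget; inferInstance
  haveI : Module.Flat (Localization.Away g) E :=
    IsLocalization.flat E (Algebra.algebraMapSubmonoid (Localization.Away g) q'.primeCompl)
  exact Module.Flat.trans B (Localization.Away g) E

/-- A normal intermediate ring with finitely generated fraction field is essentially étale. -/
theorem essEtale_of_normal_fg (A S : Type u) [CommRing A] [IsLocalRing A] [IsDomain A] [IsIntegrallyClosed A]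
    [IsNoetherianRing A] [CommRing S] [IsLocalRing S] [Algebra A S] [IsLocalHom (algebraMap A S)]
    [Hensel.IsStrictHenselization A S] (D : Subalgebra A S) [IsLocalRing D]
    [IsLocalHom (algebraMap D S)] [IsDomain D] [IsIntegrallyClosed D]
    (hfg : ∃ s : Finset D, Subfield.closure (Set.range (algebraMap A (FractionRing D)) ∪
        (algebraMap D (FractionRing D)) '' (s : Set D)) = ⊤) :
    EGA4loc.IsEssentiallyEtale A D := by
  classical
  have hmin : (minimalPrimes A).Finite := minimalPrimes.finite_of_isNoetherianRing A
  haveI := weaklyEtale_of_isStrictHenselization A S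
  haveI : Module.Flat A S := inferInstance
  haveI : Module.FaithfullyFlat A S := Module.FaithfullyFlat.of_flat_of_isLocalHom
  have hAS : Function.Injective (algebraMap A S) := FaithfulSMul.algebraMap_injective A S
  haveI : FaithfulSMul A D := (faithfulSMul_iff_algebraMap_injective A D).2
    fun a b h => hAS (congrArg Subtype.val h)
  let K := FractionRing A
  let F := FractionRing D
  letI : Algebra K F := FractionRing.liftAlgebra A F
  haveI : IsArtinianRing K := inferInstance
  haveI : Module.Flat A K := IsLocalization.flat K (nonZeroDivisors A)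
  let Λ : K ⊗[A] D →ₐ[K] F :=
    Algebra.TensorProduct.lift (Algebra.ofId K F) (IsScalarTower.toAlgHom A D F) fun _ _ => Commute.all _ _
  -- integrality over the field
  have hint : ∀ x : S, IsIntegral K ((1 : K) ⊗ₜ[A] x) := fun x => by
    obtain ⟨C, _, _, q, _, θ, hC, -, -, -, hZ⟩ := S16441.exists_etale_local A S {x}
    obtain ⟨z, rfl⟩ := hZ x (Finset.mem_singleton_self x)
    haveI : Module.Finite K (K ⊗[A] Localization.AtPrime q) := S16441.finite_tensor_localization q.primeCompl
    have h := (IsIntegral.of_finite K ((1 : K) ⊗ₜ[A] z)).map (Algebra.TensorProduct.map (AlgHom.id K K) θ)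
    simpa using h
  let ι : K ⊗[A] D →ₐ[K] K ⊗[A] S := Algebra.TensorProduct.map (AlgHom.id K K) D.val
  have hι : Function.Injective ι := Module.Flat.lTensor_preserves_injective_linearMap (M := K)
    D.val.toLinearMap Subtype.val_injective
  have hintD : ∀ d : D, IsIntegral K (algebraMap D F d) := fun d => by
    have h := ((isIntegral_algHom_iff ι hι).1 (by simpa [ι] using hint d) :
      IsIntegral K ((1 : K) ⊗ₜ[A] d)).map Λ
    simpa [Λ] using h
  haveI halg : Algebra.IsAlgebraic K F := ⟨fun x => by
    obtain ⟨d, s, -, rfl⟩ := IsFractionRing.div_surjective D x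
    exact (IsIntegral.mul (hintD d) (hintD s).inv).isAlgebraic.elim
      fun p hp => ⟨p, hp.1, by rw [div_eq_mul_inv]; exact hp.2⟩⟩
  obtain ⟨s, hs⟩ := hfg
  -- `D` lies in an essentially étale algebra
  have ht : ∀ x : F, ∃ a ∈ nonZeroDivisors A, algebraMap A F a * x ∈
      Algebra.adjoin A ((s.image (algebraMap D F) : Finset F) : Set F) := fun x => by
    let W := Algebra.adjoin K ((s.image (algebraMap D F) : Finset F) : Set F)
    let W' : Subfield F :=
      { W.toSubring with
        inv_mem' := fun y hy => W.inv_mem_of_algebraic (x := ⟨y, hy⟩) (halg.isAlgebraic y) }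
    have hx : x ∈ W' := by
      refine (Subfield.closure_le.2 ?_) (hs.symm ▸ Subfield.mem_top x)
      rintro y (⟨a, rfl⟩ | ⟨d, hd, rfl⟩)
      · rw [IsScalarTower.algebraMap_apply A K F]
        exact W.algebraMap_mem _
      · exact Algebra.subset_adjoin (Finset.mem_image_of_mem _ hd)
    obtain ⟨t, ht⟩ := multiple_mem_adjoin_of_mem_localization_adjoin (nonZeroDivisors A) K _ x hx
    refine ⟨t, t.2, ?_⟩
    rw [← Algebra.smul_def]
    exact ht
  obtain ⟨E, hDE, _, C, _, _, q, _, hC, hq, ⟨e⟩⟩ := (S16441.result A S hmin D).1 ⟨_, ht⟩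
  letI : Algebra C E := (e.symm.toRingHom.comp (algebraMap C (Localization.AtPrime q))).toAlgebra
  haveI : IsScalarTower A C E := IsScalarTower.of_algebraMap_eq fun a => by
    show algebraMap A E a = e.symm (algebraMap C (Localization.AtPrime q) (algebraMap A C a))
    rw [← IsScalarTower.algebraMap_apply, AlgEquiv.commutes]
  let eC : Localization.AtPrime q ≃ₐ[C] E := AlgEquiv.ofRingEquiv (f := e.symm.toRingEquiv) fun _ => rfl
  haveI : IsLocalization.AtPrime E q := IsLocalization.isLocalization_of_algEquiv q.primeCompl eC
  let incl : D →ₐ[A] E := Subalgebra.inclusion hDE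
  -- separability and finiteness of `F`
  let T := K ⊗[A] E
  haveI : Module.Finite K T := S16441.finite_tensor_localization q.primeCompl
  haveI : Algebra.FormallyEtale C E := Algebra.FormallyEtale.of_isLocalization q.primeCompl
  haveI : Algebra.FormallyEtale A E := Algebra.FormallyEtale.comp A C E
  haveI : Algebra.FormallyUnramified A E := inferInstance
  let j : K ⊗[A] D →ₐ[K] T := Algebra.TensorProduct.map (AlgHom.id K K) incl
  have hj : Function.Injective j := Module.Flat.lTensor_preserves_injective_linearMap (M := K)
    incl.toLinearMap (Subalgebra.inclusion_injective hDE)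
  haveI : Nontrivial (K ⊗[A] D) := Λ.toRingHom.domain_nontrivial
  haveI : Nontrivial T := hj.nontrivial
  obtain ⟨M, hM⟩ := Ideal.exists_maximal T
  letI := Ideal.Quotient.field M
  let μ : D →ₐ[A] T ⧸ M :=
    ((Ideal.Quotient.mkₐ A M).comp (j.restrictScalars A)).comp Algebra.TensorProduct.includeRight
  have hμ : Function.Injective μ := (injective_iff_map_eq_zero _).2 fun d hd => by
    by_contra hd0
    have hu : IsUnit ((1 : K) ⊗ₜ[A] d) := by
      haveI : Module.Finite K (K ⊗[A] D) := Module.Finite.of_injective j.toLinearMap hj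
      refine S16441.isUnit_of_isIntegral (IsIntegral.of_finite K _) ?_
      have hinj : Function.Injective ((LinearMap.mulRight A d).lTensor K) :=
        Module.Flat.lTensor_preserves_injective_linearMap _
          fun a b h => mul_right_cancel₀ hd0 h
      have heq : ∀ y, (LinearMap.mulRight A d).lTensor K y = y * (1 ⊗ₜ d) := fun y => by
        induction y using TensorProduct.induction_on with
        | zero => simp
        | add y₁ y₂ h₁ h₂ => simp [h₁, h₂, add_mul]
        | tmul k z => simp
      exact mem_nonZeroDivisors_iff_right.2 fun y hy => hinj (by rw [heq, hy, map_zero])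
    exact not_isUnit_zero (hd ▸ (hu.map ((Ideal.Quotient.mkₐ K M).comp j)) : IsUnit (0 : T ⧸ M))
  let ν : F →ₐ[K] T ⧸ M :=
    { IsFractionRing.lift (g := μ.toRingHom) hμ with
      commutes' := fun k => by
        show IsFractionRing.lift (g := μ.toRingHom) hμ (algebraMap K F k) = algebraMap K (T ⧸ M) k
        refine RingHom.congr_fun (IsLocalization.ringHom_ext (nonZeroDivisors A) (S := K)
          (j := (IsFractionRing.lift (g := μ.toRingHom) hμ).comp (algebraMap K F)) (k := algebraMap K (T ⧸ M))
          (RingHom.ext fun a => ?_)) k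
        simp only [RingHom.comp_apply, ← IsScalarTower.algebraMap_apply A K F,
          ← IsScalarTower.algebraMap_apply A K (T ⧸ M), IsScalarTower.algebraMap_apply A D F,
          IsFractionRing.lift_algebraMap]
        exact μ.commutes a }
  haveI : FiniteDimensional K F := FiniteDimensional.of_injective ν.toLinearMap ν.toRingHom.injective
  haveI : Algebra.IsSeparable K (T ⧸ M) := by
    haveI : Algebra.FormallyUnramified K (T ⧸ M) :=
      Algebra.FormallyUnramified.of_surjective (Ideal.Quotient.mkₐ K M) Ideal.Quotient.mk_surjective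
    exact Algebra.FormallyUnramified.isSeparable K (T ⧸ M)
  haveI : Algebra.IsSeparable K F := Algebra.IsSeparable.of_algHom K (T ⧸ M) ν
  -- the integral closure of `A`
  let B := integralClosure A D
  have hDF : Function.Injective (algebraMap D F) := IsFractionRing.injective D F
  haveI : IsIntegralClosure B A F :=
    { algebraMap_injective := fun x y h => Subtype.ext (hDF h)
      isIntegral_iff := fun {x} => ⟨fun hx => by
        obtain ⟨d, rfl⟩ := IsIntegrallyClosed.isIntegral_iff.1 (hx.tower_top : IsIntegral D x)
        exact ⟨⟨d, (isIntegral_algebraMap_iff hDF).1 hx⟩, rfl⟩,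
        fun ⟨y, hy⟩ => hy ▸ (IsIntegral.map (IsScalarTower.toAlgHom A D F) y.2)⟩ }
  haveI : Module.Finite A B := IsIntegralClosure.finite A K F B
  haveI : IsNoetherianRing B := IsIntegralClosure.isNoetherianRing A K F B
  haveI : IsIntegrallyClosed B := by
    haveI := IsIntegralClosure.isFractionRing_of_finite_extension A K F B
    haveI : Algebra.IsIntegral A B := IsIntegralClosure.isIntegral_algebra A F
    exact (isIntegrallyClosed_iff F).2 fun hx => IsIntegralClosure.isIntegral_iff.1 (isIntegral_trans (R := A) _ hx)
  letI : Algebra B E := (incl.toRingHom.comp (algebraMap B D)).toAlgebra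
  haveI : IsScalarTower A B E := IsScalarTower.of_algebraMap_eq fun a => (incl.commutes a).symm
  have hBE : Function.Injective (algebraMap B E) :=
    (Subalgebra.inclusion_injective hDE).comp Subtype.val_injective
  haveI : Module.Flat B E := flat_of_unramified_normal (A := A) (C := C) q hBE
  let n : Ideal B := (maximalIdeal D).comap (algebraMap B D)
  let Bn := Localization.AtPrime n
  have huD : ∀ d : D, IsUnit (incl d) → IsUnit d := fun d hd =>
    (isUnit_map_iff (algebraMap D S) d).1 (hd.map E.val)
  have hn : ∀ y : n.primeCompl, IsUnit (algebraMap B E y) := fun y => (not_not.1 y.2 : IsUnit (y.1 : D)).map incl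
  letI : Algebra Bn E := (IsLocalization.lift hn).toAlgebra
  haveI : IsScalarTower B Bn E := IsScalarTower.of_algebraMap_eq fun b => (IsLocalization.lift_eq hn b).symm
  haveI : IsScalarTower A Bn E := IsScalarTower.of_algebraMap_eq fun a => by
    rw [IsScalarTower.algebraMap_apply A B Bn, ← IsScalarTower.algebraMap_apply B Bn E,
      ← IsScalarTower.algebraMap_apply A B E]
  haveI : Module.Flat Bn E :=
    (Module.flat_iff_of_isLocalization Bn n.primeCompl E).2 inferInstance
  haveI : IsLocalHom (algebraMap Bn E) := ⟨fun z hz => by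
    obtain ⟨b, s, rfl⟩ := IsLocalization.exists_mk'_eq n.primeCompl z
    refine (IsLocalization.AtPrime.isUnit_mk'_iff Bn n b s).2 fun hb => hb (huD (b : D) ?_)
    have : IsUnit (algebraMap Bn E (IsLocalization.mk' Bn b s) * algebraMap B E s) := hz.mul (hn s)
    rwa [IsScalarTower.algebraMap_apply B Bn E (s : B), ← map_mul, IsLocalization.mk'_spec,
      ← IsScalarTower.algebraMap_apply] at this⟩
  haveI : Module.FaithfullyFlat Bn E := Module.FaithfullyFlat.of_flat_of_isLocalHom
  haveI hBD : IsLocalization n.primeCompl D := by
    refine { map_units := fun y => not_not.1 y.2, surj := fun x => ?_,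
             exists_of_eq := fun {x y} h => ⟨1, by rw [show x = y from Subtype.ext h]⟩ }
    obtain ⟨⟨m, hm⟩, hmint⟩ := IsIntegral.exists_multiple_integral_of_isLocalization (nonZeroDivisors A)
      (algebraMap D F x) (hintD x)
    let b : B := ⟨m • x, (isIntegral_algebraMap_iff hDF).1 (by
      rw [Algebra.smul_def, map_mul, ← IsScalarTower.algebraMap_apply, ← Algebra.smul_def]
      exact hmint)⟩
    have hbE : algebraMap Bn E (algebraMap B Bn b) = algebraMap A E m * incl x := by
      rw [← IsScalarTower.algebraMap_apply]
      show incl (m • x) = _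
      rw [map_smul, Algebra.smul_def]
    have hI : algebraMap B Bn b ∈ Ideal.span {algebraMap A Bn m} := by
      rw [← Ideal.comap_map_eq_self_of_faithfullyFlat (B := E) (Ideal.span {algebraMap A Bn m}), Ideal.mem_comap,
        Ideal.map_span, Set.image_singleton, Ideal.mem_span_singleton, ← IsScalarTower.algebraMap_apply, hbE]
      exact Dvd.intro _ rfl
    obtain ⟨y, hy⟩ := Ideal.mem_span_singleton.1 hI
    obtain ⟨c, t, rfl⟩ := IsLocalization.exists_mk'_eq n.primeCompl y
    refine ⟨⟨c, t⟩, Subalgebra.inclusion_injective hDE ?_⟩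
    show incl (x * algebraMap B D t) = algebraMap B E c
    have hmreg : IsSMulRegular S m := Module.Flat.isSMulRegular_of_nonZeroDivisors hm
    refine Subtype.ext (hmreg ?_)
    show ((m • incl (x * algebraMap B D t) : E) : S) = ((m • algebraMap B E c : E) : S)
    refine congrArg Subtype.val ?_
    rw [Algebra.smul_def, Algebra.smul_def, map_mul, ← mul_assoc, ← hbE, hy, map_mul, ← IsScalarTower.algebraMap_apply A Bn E,
      show incl (algebraMap B D t) = algebraMap Bn E (algebraMap B Bn t) from IsScalarTower.algebraMap_apply B Bn E t,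
      mul_assoc, ← map_mul (algebraMap Bn E), IsLocalization.mk'_spec, ← IsScalarTower.algebraMap_apply B Bn E]
  haveI : Algebra.EssFiniteType A D :=
    haveI := Algebra.EssFiniteType.of_isLocalization D n.primeCompl
    Algebra.EssFiniteType.comp A B D
  refine essEtale_of_map_maximalIdeal A S D (le_antisymm ?_ fun d hd => ?_)
  · refine Ideal.map_le_iff_le_comap.2 fun a ha hu => ha ?_
    exact (isUnit_map_iff (algebraMap A S) a).1 (hu.map D.val)
  haveI : IsLocalHom (algebraMap A E) := ⟨fun a ha => (isUnit_map_iff (algebraMap A S) a).1 (ha.map E.val)⟩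
  haveI : Algebra.EssFiniteType A E :=
    haveI := Algebra.EssFiniteType.of_isLocalization E q.primeCompl
    Algebra.EssFiniteType.comp A C E
  obtain ⟨b, t, rfl⟩ := IsLocalization.exists_mk'_eq n.primeCompl d
  have hb : IsLocalization.mk' Bn b t ∈ Ideal.map (algebraMap A Bn) (maximalIdeal A) := by
    rw [← Ideal.comap_map_eq_self_of_faithfullyFlat (B := E) (Ideal.map (algebraMap A Bn) (maximalIdeal A)),
      Ideal.mem_comap, Ideal.map_map, ← IsScalarTower.algebraMap_eq,
      Algebra.FormallyUnramified.map_maximalIdeal]
    intro hu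
    have hbn : b ∈ n := by
      by_contra hbn
      exact hd ((IsLocalization.AtPrime.isUnit_mk'_iff D n b t).2 hbn)
    exact (IsLocalization.AtPrime.isUnit_mk'_iff Bn n b t).1 (IsLocalHom.map_nonunit _ hu) hbn
  let ψ : Bn →ₐ[B] D := (IsLocalization.algEquiv n.primeCompl Bn D).toAlgHom
  have hmap := Ideal.mem_map_of_mem ψ.toRingHom hb
  rw [Ideal.map_map] at hmap
  rw [show ψ.toRingHom.comp (algebraMap A Bn) = algebraMap A D from (ψ.restrictScalars A).comp_algebraMap] at hmap
  rwa [show ψ.toRingHom (IsLocalization.mk' Bn b t) = IsLocalization.mk' D b t from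
    IsLocalization.algEquiv_mk' b t] at hmap

end Groth.Agent.SHensel17
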