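import Groth.Agent.SHensel17.Tensor

/-!
# Strict henselizations along quasi-finite maps
-/

set_option autoImplicit false
set_option linter.style.haveILetI false

universe u

open TensorProduct IsLocalRing

namespace Groth.Agent.SHensel17

/-- If the elements of `B` become integral in every local algebra with the same point, the map of
strict henselizations is a quotient of the base change, and integral. -/
theorem surjective_tensor {A B : Type u} [CommRing A] [CommRing B] [Algebra A B]
    (Ash Bsh : Type u) [CommRing Ash] [HenselianLocalRing Ash] [IsSepClosed (ResidueField Ash)]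
    [CommRing Bsh] [IsLocalRing Bsh] [Algebra A Ash] [Algebra B Bsh] [Algebra A Bsh]
    [IsScalarTower A B Bsh] [Algebra Ash Bsh] [IsScalarTower A Ash Bsh]
    [IsLocalHom (algebraMap Ash Bsh)] [Algebra.WeaklyEtale A Ash] [Algebra.WeaklyEtale B Bsh]
    (h : ∀ (C : Type u) [CommRing C] [IsLocalRing C] [Algebra A C] [Algebra Ash C]
      [IsScalarTower A Ash C] [IsLocalHom (algebraMap Ash C)] (g : B →ₐ[A] C),
      (maximalIdeal C).comap g.toRingHom = (maximalIdeal Bsh).comap (algebraMap B Bsh) →
      ∀ b, IsIntegral Ash (g b)) :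
    Function.Surjective (Algebra.TensorProduct.lift (Algebra.ofId Ash Bsh)
      (IsScalarTower.toAlgHom A B Bsh) (fun _ _ => Commute.all _ _)) ∧
    Algebra.IsIntegral Ash Bsh := by
  let T := Ash ⊗[A] B
  let τ : T →ₐ[Ash] Bsh := Algebra.TensorProduct.lift (Algebra.ofId Ash Bsh)
    (IsScalarTower.toAlgHom A B Bsh) (fun _ _ => Commute.all _ _)
  letI : Algebra T Bsh := τ.toRingHom.toAlgebra
  haveI : IsScalarTower Ash T Bsh := .of_algebraMap_eq fun x => (τ.commutes x).symm
  haveI : Algebra.WeaklyEtale T Bsh := by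
    refine (RWE.cancel (f := (Algebra.TensorProduct.includeRight : B →ₐ[A] T).toRingHom) ?_
      (rwe_includeRight A Ash B)).weaklyEtale rfl
    convert! rwe_algebraMap B Bsh using 1
    exact RingHom.ext fun b => by simp [τ, T, RingHom.algebraMap_toAlgebra]
  refine surjective_of_weaklyEtale (T := T) fun hloc t => ?_
  let Q : Ideal T := (maximalIdeal Bsh).comap (algebraMap T Bsh)
  haveI : IsLocalHom (algebraMap Ash (Localization.AtPrime Q)) := hloc
  induction t using TensorProduct.induction_on with
  | zero => rw [map_zero]; exact isIntegral_zero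
  | add x y hx hy => rw [map_add]; exact hx.add hy
  | tmul a b =>
    rw [show a ⊗ₜ[A] b = algebraMap Ash T a * ((1 : Ash) ⊗ₜ[A] b) by simp [T], map_mul,
      ← IsScalarTower.algebraMap_apply Ash T (Localization.AtPrime Q)]
    refine isIntegral_algebraMap.mul ?_
    let g : B →ₐ[A] Localization.AtPrime Q :=
      (IsScalarTower.toAlgHom A T (Localization.AtPrime Q)).comp Algebra.TensorProduct.includeRight
    refine h (Localization.AtPrime Q) g ?_ b
    ext x
    show algebraMap T (Localization.AtPrime Q) ((1 : Ash) ⊗ₜ[A] x) ∈ maximalIdeal _ ↔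
      algebraMap B Bsh x ∈ maximalIdeal Bsh
    rw [IsLocalization.AtPrime.to_map_mem_maximal_iff (Localization.AtPrime Q) Q]
    show τ ((1 : Ash) ⊗ₜ[A] x) ∈ maximalIdeal Bsh ↔ _
    simp [τ, T]

variable {A B : Type u} [CommRing A] [CommRing B] [Algebra A B]

theorem isIntegral_of_isIntegral [Algebra.IsIntegral A B] {Ash C : Type u} [CommRing Ash] [CommRing C]
    [Algebra A Ash] [Algebra A C] [Algebra Ash C] [IsScalarTower A Ash C] (g : B →ₐ[A] C) (b : B) :
    IsIntegral Ash (g b) :=
  ((Algebra.IsIntegral.isIntegral (R := A) b).map g).tower_top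

theorem isIntegral_of_quasiFiniteAt_prime [Algebra.FiniteType A B] (pB : Ideal B) [pB.IsPrime]
    [Algebra.QuasiFiniteAt A pB] {Ash C : Type u} [CommRing Ash] [HenselianLocalRing Ash]
    [CommRing C] [IsLocalRing C] [Algebra A Ash] [Algebra A C] [Algebra Ash C] [IsScalarTower A Ash C]
    [IsLocalHom (algebraMap Ash C)] (g : B →ₐ[A] C)
    (hg : (maximalIdeal C).comap g.toRingHom = pB) (b : B) : IsIntegral Ash (g b) := by
  let g' : Ash ⊗[A] B →ₐ[Ash] C :=
    Algebra.TensorProduct.lift (Algebra.ofId Ash C) g (fun _ _ => Commute.all _ _)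
  haveI : Algebra.QuasiFiniteAt Ash ((maximalIdeal C).comap g'.toRingHom) := by
    refine Algebra.QuasiFiniteAt.baseChange pB _ ?_
    rw [Ideal.comap_comap, ← hg]
    exact congrArg (fun f => Ideal.comap f (maximalIdeal C)) (RingHom.ext fun x => by simp [g'])
  have := isIntegral_of_quasiFiniteAt g' ((1 : Ash) ⊗ₜ[A] b)
  simpa [g'] using this

theorem isIntegral_of_quasiFinite_union
    (hB : ∀ s : Finset B, ∃ B₀ : Subalgebra A B, (↑s : Set B) ⊆ ↑B₀ ∧
      Algebra.FiniteType A ↥B₀ ∧ Algebra.QuasiFinite A ↥B₀)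
    {Ash C : Type u} [CommRing Ash] [HenselianLocalRing Ash]
    [CommRing C] [IsLocalRing C] [Algebra A Ash] [Algebra A C] [Algebra Ash C] [IsScalarTower A Ash C]
    [IsLocalHom (algebraMap Ash C)] (g : B →ₐ[A] C) (b : B) : IsIntegral Ash (g b) := by
  obtain ⟨B₀, hb, hft, hqf⟩ := hB {b}
  haveI := hft
  haveI := hqf
  exact isIntegral_of_quasiFiniteAt_prime ((maximalIdeal C).comap (g.comp B₀.val).toRingHom)
    (g.comp B₀.val) rfl ⟨b, hb (by simp)⟩

/-- The point of a strict henselization. -/
theorem comap_maximalIdeal (pB : Ideal B) [pB.IsPrime] (Bsh : Type u) [CommRing Bsh] [IsLocalRing Bsh]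
    [Algebra (Localization.AtPrime pB) Bsh] [IsLocalHom (algebraMap (Localization.AtPrime pB) Bsh)]
    [Algebra B Bsh] [IsScalarTower B (Localization.AtPrime pB) Bsh] :
    (maximalIdeal Bsh).comap (algebraMap B Bsh) = pB := by
  rw [IsScalarTower.algebraMap_eq B (Localization.AtPrime pB) Bsh, ← Ideal.comap_comap,
    ((local_hom_TFAE (algebraMap (Localization.AtPrime pB) Bsh)).out 0 4 :).1 ‹_›]
  exact IsLocalization.AtPrime.comap_maximalIdeal _ pB

end Groth.Agent.SHensel17
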