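import Groth.Agent.SHensel17.Integral

/-!
# Strict henselizations and tensor products
-/

set_option autoImplicit false
set_option linter.style.haveILetI false

universe u

open TensorProduct IsLocalRing

namespace Groth.Agent.SHensel17

/-- The tensor product of a local integral algebra with a strictly henselian local algebra over a
strictly henselian local ring is local. -/
theorem isLocalRing_tensor (H Bsh Csh : Type u) [CommRing H] [HenselianLocalRing H]
    [IsSepClosed (ResidueField H)] [CommRing Bsh] [IsLocalRing Bsh] [CommRing Csh] [IsLocalRing Csh]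
    [Algebra H Bsh] [Algebra H Csh] [IsLocalHom (algebraMap H Bsh)] [IsLocalHom (algebraMap H Csh)]
    [Algebra.IsIntegral H Bsh] [Nontrivial (Csh ⊗[H] Bsh)] :
    IsLocalRing (Csh ⊗[H] Bsh) ∧ Algebra.IsIntegral Csh (Csh ⊗[H] Bsh) := by
  classical
  let E := Csh ⊗[H] Bsh
  haveI hint : Algebra.IsIntegral Csh E := ⟨fun z => by
    induction z using TensorProduct.induction_on with
    | zero => exact isIntegral_zero
    | add x y hx hy => exact hx.add hy
    | tmul c b =>
      have h1 : IsIntegral Csh ((1 : Csh) ⊗ₜ[H] b) :=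
        (IsIntegral.map (Algebra.TensorProduct.includeRight : Bsh →ₐ[H] E)
          (Algebra.IsIntegral.isIntegral (R := H) b)).tower_top
      rw [show c ⊗ₜ[H] b = algebraMap Csh E c * ((1 : Csh) ⊗ₜ[H] b) by simp [E]]
      exact isIntegral_algebraMap.mul h1⟩
  obtain ⟨-, -, hpi⟩ := integral_local (H := H) (C := Bsh)
  haveI := hpi ‹_›
  let Ω := AlgebraicClosure (ResidueField Csh)
  have hφ : ∀ M : Ideal E, M.IsMaximal → ∃ φ : E →+* Ω, RingHom.ker φ = M ∧
      (∀ c, φ (algebraMap Csh E c) = algebraMap (ResidueField Csh) Ω (residue Csh c)) ∧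
      ∀ b : Bsh, b ∈ maximalIdeal Bsh → φ ((1 : Csh) ⊗ₜ[H] b) = 0 := by
    intro M hM
    haveI := hM
    have hMC : M.comap (algebraMap Csh E) = maximalIdeal Csh :=
      IsLocalRing.eq_maximalIdeal (Ideal.isMaximal_comap_of_isIntegral_of_isMaximal (R := Csh) M)
    letI : Field (E ⧸ M) := Ideal.Quotient.field M
    letI : Algebra (ResidueField Csh) (E ⧸ M) :=
      (Ideal.Quotient.lift (maximalIdeal Csh) ((Ideal.Quotient.mk M).comp (algebraMap Csh E))
        fun a ha => Ideal.Quotient.eq_zero_iff_mem.2 (by rw [← hMC] at ha; exact ha)).toAlgebra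
    haveI : IsScalarTower Csh (ResidueField Csh) (E ⧸ M) := .of_algebraMap_eq fun c => rfl
    haveI : Algebra.IsAlgebraic (ResidueField Csh) (E ⧸ M) := ⟨fun z => by
      obtain ⟨z, rfl⟩ := Ideal.Quotient.mk_surjective z
      exact ((Algebra.IsIntegral.isIntegral (R := Csh) z).map
        (Ideal.Quotient.mkₐ Csh M)).tower_top.isAlgebraic⟩
    let σ : E ⧸ M →ₐ[ResidueField Csh] Ω := IsAlgClosed.lift
    refine ⟨σ.toRingHom.comp (Ideal.Quotient.mk M), ?_, fun c => ?_, fun b hb => ?_⟩
    · ext x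
      rw [RingHom.mem_ker, RingHom.comp_apply, map_eq_zero_iff _ σ.toRingHom.injective,
        Ideal.Quotient.eq_zero_iff_mem]
    · exact σ.commutes (residue Csh c)
    · let P : Ideal Bsh := M.comap (Algebra.TensorProduct.includeRight : Bsh →ₐ[H] E).toRingHom
      haveI : P.IsPrime := Ideal.comap_isPrime _ _
      have hP : P = maximalIdeal Bsh := by
        refine IsLocalRing.eq_maximalIdeal (Ideal.isMaximal_of_isIntegral_of_isMaximal_comap (R := H) P ?_)
        have : P.comap (algebraMap H Bsh) = (M.comap (algebraMap Csh E)).comap (algebraMap H Csh) := by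
          rw [Ideal.comap_comap, Ideal.comap_comap]
          congr 1
          rw [← IsScalarTower.algebraMap_eq H Csh E]
          exact (Algebra.TensorProduct.includeRight : Bsh →ₐ[H] E).comp_algebraMap
        rw [this, hMC, ((local_hom_TFAE (algebraMap H Csh)).out 0 4 :).1 ‹_›]
        exact maximalIdeal.isMaximal H
      rw [← hP] at hb
      rw [RingHom.comp_apply, Ideal.Quotient.eq_zero_iff_mem.2 (show (1 : Csh) ⊗ₜ[H] b ∈ M from hb), map_zero]
  obtain ⟨M, hM⟩ := Ideal.exists_maximal E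
  refine ⟨IsLocalRing.of_unique_max_ideal ⟨M, hM, fun M' hM' => ?_⟩, hint⟩
  obtain ⟨φ, hk, hc, hb⟩ := hφ M hM
  obtain ⟨φ', hk', hc', hb'⟩ := hφ M' hM'
  have hB : ∀ b : Bsh, φ ((1 : Csh) ⊗ₜ[H] b) = φ' ((1 : Csh) ⊗ₜ[H] b) := by
    let f : Bsh →+* Ω := φ.comp (Algebra.TensorProduct.includeRight : Bsh →ₐ[H] E).toRingHom
    let f' : Bsh →+* Ω := φ'.comp (Algebra.TensorProduct.includeRight : Bsh →ₐ[H] E).toRingHom
    have heq : Ideal.Quotient.lift (maximalIdeal Bsh) f hb = Ideal.Quotient.lift (maximalIdeal Bsh) f' hb' := by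
      apply IsPurelyInseparable.injective_comp_algebraMap (ResidueField H) (ResidueField Bsh) Ω
      refine RingHom.ext fun x => ?_
      obtain ⟨a, rfl⟩ := residue_surjective x
      show f (algebraMap H Bsh a) = f' (algebraMap H Bsh a)
      show φ ((1 : Csh) ⊗ₜ[H] algebraMap H Bsh a) = φ' ((1 : Csh) ⊗ₜ[H] algebraMap H Bsh a)
      rw [show (1 : Csh) ⊗ₜ[H] algebraMap H Bsh a = algebraMap Csh E (algebraMap H Csh a) by
        rw [← IsScalarTower.algebraMap_apply H Csh E]
        exact (Algebra.TensorProduct.includeRight : Bsh →ₐ[H] E).commutes a, hc, hc']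
    exact fun b => RingHom.congr_fun heq (residue Bsh b)
  have : φ = φ' := by
    refine RingHom.ext fun z => ?_
    induction z using TensorProduct.induction_on with
    | zero => simp
    | add x y hx hy => rw [map_add, map_add, hx, hy]
    | tmul c b =>
      rw [show c ⊗ₜ[H] b = algebraMap Csh E c * ((1 : Csh) ⊗ₜ[H] b) by simp [E], map_mul, map_mul,
        hc, hc', hB]
  rw [← hk', ← hk, this]

/-- The comparison map between strict henselizations is bijective. -/
theorem bijective_lift (A B C : Type u) [CommRing A] [CommRing B] [CommRing C] [Algebra A B]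
    [Algebra A C] (Ash Bsh Csh Dsh : Type u) [CommRing Ash] [HenselianLocalRing Ash]
    [IsSepClosed (ResidueField Ash)] [CommRing Bsh] [IsLocalRing Bsh] [CommRing Csh]
    [HenselianLocalRing Csh] [IsSepClosed (ResidueField Csh)] [CommRing Dsh] [IsLocalRing Dsh]
    [Algebra A Ash] [Algebra B Bsh] [Algebra C Csh] [Algebra A Bsh] [IsScalarTower A B Bsh]
    [Algebra A Csh] [IsScalarTower A C Csh] [Algebra Ash Bsh] [IsScalarTower A Ash Bsh]
    [Algebra Ash Csh] [IsScalarTower A Ash Csh] [Algebra (B ⊗[A] C) Dsh] [Algebra Bsh Dsh]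
    [Algebra Csh Dsh] [Algebra Ash Dsh] [IsScalarTower Ash Bsh Dsh] [IsScalarTower Ash Csh Dsh]
    [IsLocalHom (algebraMap Ash Bsh)] [IsLocalHom (algebraMap Ash Csh)]
    [IsLocalHom (algebraMap Csh Dsh)]
    [Algebra.WeaklyEtale A Ash] [Algebra.WeaklyEtale B Bsh] [Algebra.WeaklyEtale C Csh]
    [Algebra.WeaklyEtale (B ⊗[A] C) Dsh] [Algebra.IsIntegral Ash Bsh]
    (hB : ∀ b : B, algebraMap Bsh Dsh (algebraMap B Bsh b) = algebraMap (B ⊗[A] C) Dsh (b ⊗ₜ[A] 1))
    (hC : ∀ c : C, algebraMap Csh Dsh (algebraMap C Csh c) = algebraMap (B ⊗[A] C) Dsh (1 ⊗ₜ[A] c)) :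
    Function.Bijective (Algebra.TensorProduct.lift (IsScalarTower.toAlgHom Ash Bsh Dsh)
      (IsScalarTower.toAlgHom Ash Csh Dsh) (fun _ _ => Commute.all _ _)) := by
  let E := Csh ⊗[Ash] Bsh
  let ψ : E →ₐ[Ash] Dsh := Algebra.TensorProduct.lift (IsScalarTower.toAlgHom Ash Csh Dsh)
    (IsScalarTower.toAlgHom Ash Bsh Dsh) (fun _ _ => Commute.all _ _)
  haveI : Nontrivial E := RingHom.domain_nontrivial ψ.toRingHom
  obtain ⟨hloc, hint⟩ := isLocalRing_tensor Ash Bsh Csh
  haveI := hloc
  haveI := hint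
  obtain ⟨hhens, hsep, -⟩ := integral_local (H := Csh) (C := E)
  haveI := hhens
  haveI := hsep
  let T := Ash ⊗[A] B
  let τ : T →ₐ[Ash] Bsh := Algebra.TensorProduct.lift (Algebra.ofId Ash Bsh)
    (IsScalarTower.toAlgHom A B Bsh) (fun _ _ => Commute.all _ _)
  letI : Algebra T Bsh := τ.toRingHom.toAlgebra
  haveI : IsScalarTower Ash T Bsh := .of_algebraMap_eq fun x => (τ.commutes x).symm
  haveI : Algebra.WeaklyEtale T Bsh := by
    refine (RWE.cancel (f := (Algebra.TensorProduct.includeRight : B →ₐ[A] T).toRingHom) ?_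
      (rwe_includeRight A Ash B)).weaklyEtale rfl
    convert! rwe_algebraMap B Bsh using 1
    exact RingHom.ext fun b => by simp [τ, T, RingHom.algebraMap_toAlgebra]
  let g₁ : C ⊗[A] B →+* Csh ⊗[A] B :=
    (Algebra.TensorProduct.map (IsScalarTower.toAlgHom A C Csh) (AlgHom.id A B)).toRingHom
  let g₂ : Csh ⊗[A] B →+* Csh ⊗[Ash] T :=
    (Algebra.TensorProduct.cancelBaseChange A Ash Ash Csh B).symm.toRingEquiv.toRingHom
  let g₃ : Csh ⊗[Ash] T →+* E := (Algebra.TensorProduct.comm Ash Bsh Csh).toRingEquiv.toRingHom.comp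
    ((Algebra.TensorProduct.map (IsScalarTower.toAlgHom Ash T Bsh) (AlgHom.id Ash Csh)).toRingHom.comp
      (Algebra.TensorProduct.comm Ash Csh T).toRingEquiv.toRingHom)
  let g₀ : B ⊗[A] C →+* C ⊗[A] B := (Algebra.TensorProduct.comm A B C).toRingEquiv.toRingHom
  have hγ : RWE (g₃.comp (g₂.comp (g₁.comp g₀))) :=
    ((rwe_of_bijective (Algebra.TensorProduct.comm Ash Bsh Csh).toRingEquiv.bijective).comp
      ((rwe_map Ash Csh).comp (rwe_of_bijective (Algebra.TensorProduct.comm Ash Csh T).toRingEquiv.bijective))).comp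
      ((rwe_of_bijective (Algebra.TensorProduct.cancelBaseChange A Ash Ash Csh B).symm.toRingEquiv.bijective).comp
        ((rwe_map A B).comp (rwe_of_bijective (Algebra.TensorProduct.comm A B C).toRingEquiv.bijective)))
  have hψγ : ψ.toRingHom.comp (g₃.comp (g₂.comp (g₁.comp g₀))) = algebraMap (B ⊗[A] C) Dsh := by
    refine RingHom.ext fun z => ?_
    induction z using TensorProduct.induction_on with
    | zero => simp
    | add x y hx hy => rw [map_add, map_add, hx, hy]
    | tmul b c =>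
      rw [show b ⊗ₜ[A] c = (b ⊗ₜ[A] (1 : C)) * ((1 : B) ⊗ₜ[A] c) by simp, map_mul (algebraMap _ Dsh),
        ← hB, ← hC]
      simp [g₀, g₁, g₂, g₃, ψ, τ, T, E, RingHom.algebraMap_toAlgebra, mul_comm]
  letI : Algebra E Dsh := ψ.toRingHom.toAlgebra
  haveI : Algebra.WeaklyEtale E Dsh :=
    (RWE.cancel (g := ψ.toRingHom) (by rw [hψγ]; exact rwe_algebraMap _ _) hγ).weaklyEtale rfl
  haveI : IsLocalHom (algebraMap E Dsh) := by
    refine ((local_hom_TFAE (algebraMap E Dsh)).out 0 4 :).2 (IsLocalRing.eq_maximalIdeal ?_)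
    refine Ideal.isMaximal_of_isIntegral_of_isMaximal_comap (R := Csh) _ ?_
    rw [Ideal.comap_comap, show (algebraMap E Dsh).comp (algebraMap Csh E) = algebraMap Csh Dsh from
      RingHom.ext fun c => by simp [E, ψ, RingHom.algebraMap_toAlgebra],
      ((local_hom_TFAE (algebraMap Csh Dsh)).out 0 4 :).1 ‹_›]
    exact maximalIdeal.isMaximal Csh
  have hb := Groth.Agent.WEtaleVal.bijective_of_strictlyHenselian E Dsh
  have heq : (Algebra.TensorProduct.lift (IsScalarTower.toAlgHom Ash Bsh Dsh)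
      (IsScalarTower.toAlgHom Ash Csh Dsh) (fun _ _ => Commute.all _ _)) =
      ψ.comp (Algebra.TensorProduct.comm Ash Bsh Csh).toAlgHom :=
    Algebra.TensorProduct.ext' fun b c => by
      rw [Algebra.TensorProduct.lift_tmul]
      show _ = ψ (c ⊗ₜ[Ash] b)
      exact (mul_comm _ _).trans (Algebra.TensorProduct.lift_tmul
        (IsScalarTower.toAlgHom Ash Csh Dsh) (IsScalarTower.toAlgHom Ash Bsh Dsh)
        (fun _ _ => Commute.all _ _) c b).symm
  rw [heq]
  exact hb.comp (Algebra.TensorProduct.comm Ash Bsh Csh).bijective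

end Groth.Agent.SHensel17
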